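import Groth.Agent.Lib.BCQVcomp.Exact
import Groth.Agent.Lib.RDerLES.LES

/-!
# Base change morphisms and short exact sequences
-/

set_option autoImplicit false
set_option backward.isDefEq.respectTransparency false
set_option backward.isDefEq.respectTransparency.types false

universe v u

open CategoryTheory CategoryTheory.Limits HomologicalComplex

noncomputable section

namespace GrothLib.BCQLES

open GrothLib.BCQVcomp

variable {T S Y X : Type u} [Category.{v} T] [Abelian T] [Category.{v} S] [Abelian S] [Category.{v} Y] [Abelian Y]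
  [Category.{v} X] [Abelian X] [HasInjectiveResolutions T] [HasInjectiveResolutions Y]
  {G : T ⥤ S} {P : Y ⥤ T} {H : Y ⥤ X} {Fr : X ⥤ S}
  [G.Additive] [P.Additive] [H.Additive] [Fr.Additive]
  [P.PreservesInjectiveObjects] [PreservesFiniteLimits Fr]
  {Lp : T ⥤ Y} {Lf : S ⥤ X} (adjP : Lp ⊣ P) (adjF : Lf ⊣ Fr) (σ : P ⋙ G ≅ H ⋙ Fr)

omit [Abelian X] in
theorem inv_eq_comp_inv {A B C : X} (a : A ≅ B) (b : A ≅ C) (k : B ⟶ C) (h : b.hom = a.hom ≫ k) :
    a.inv = k ≫ b.inv := by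
  rw [← cancel_epi a.hom, Iso.hom_inv_id, ← Category.assoc, ← h, Iso.hom_inv_id]

/-- A lift of the unit to given resolutions. -/
theorem exists_lift {F : T} (I : InjectiveResolution F) (J : InjectiveResolution (Lp.obj F)) :
    ∃ u : I.cocomplex ⟶ (P.mapHomologicalComplex _).obj J.cocomplex,
      I.ι.f 0 ≫ u.f 0 = adjP.unit.app F ≫ P.map (J.ι.f 0) := by
  haveI : ∀ n, Injective (((P.mapHomologicalComplex (ComplexShape.up ℕ)).obj J.cocomplex).X n) :=
    fun n => P.injective_obj _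
  refine ⟨RDer.descToInjectives (adjP.unit.app F) I.cocomplex I.ι _ (RDer.mapAug P J.ι), ?_⟩
  erw [RDer.ι_descToInjectives_f_zero]
  simp [RDer.mapAug, HomologicalComplex.singleMapHomologicalComplex_inv_app_self]

/-- Functoriality of the morphism attached to lifts of the unit. -/
theorem transHom_square {F F' : T} (a : F ⟶ F') {I : InjectiveResolution F} {I' : InjectiveResolution F'}
    {J : InjectiveResolution (Lp.obj F)} {J' : InjectiveResolution (Lp.obj F')}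
    (α : I.cocomplex ⟶ I'.cocomplex) (hα : I.ι.f 0 ≫ α.f 0 = a ≫ I'.ι.f 0)
    (β : J.cocomplex ⟶ J'.cocomplex) (hβ : J.ι.f 0 ≫ β.f 0 = Lp.map a ≫ J'.ι.f 0)
    (u : I.cocomplex ⟶ (P.mapHomologicalComplex _).obj J.cocomplex)
    (hu : I.ι.f 0 ≫ u.f 0 = adjP.unit.app F ≫ P.map (J.ι.f 0))
    (u' : I'.cocomplex ⟶ (P.mapHomologicalComplex _).obj J'.cocomplex)
    (hu' : I'.ι.f 0 ≫ u'.f 0 = adjP.unit.app F' ≫ P.map (J'.ι.f 0)) (q : ℕ) :
    Lf.map (homologyMap ((G.mapHomologicalComplex _).map α) q) ≫ transHom adjF (sqCx σ u') q =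
      transHom adjF (sqCx σ u) q ≫ homologyMap ((H.mapHomologicalComplex _).map β) q := by
  rw [← transHom_map, ← show transHom adjF ((G.mapHomologicalComplex _).map α ≫ sqCx σ u') q =
    Lf.map (homologyMap ((G.mapHomologicalComplex _).map α) q) ≫ transHom adjF (sqCx σ u') q by
      rw [transHom, transHom, homologyMap_comp, Category.assoc, Adjunction.homEquiv_naturality_left_symm]]
  haveI : ∀ n, Injective (((P.mapHomologicalComplex (ComplexShape.up ℕ)).obj J'.cocomplex).X n) :=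
    fun n => P.injective_obj _
  obtain ⟨Hh⟩ := nonempty_homotopy I ((P.mapHomologicalComplex _).obj J'.cocomplex) (α ≫ u')
    (u ≫ (P.mapHomologicalComplex _).map β) (by
      show I.ι.f 0 ≫ α.f 0 ≫ u'.f 0 = I.ι.f 0 ≫ u.f 0 ≫ P.map (β.f 0)
      rw [reassoc_of% hα, hu', reassoc_of% hu, ← P.map_comp, hβ, P.map_comp]
      exact adjP.unit.naturality_assoc a _)
  have e1 : (G.mapHomologicalComplex _).map α ≫ sqCx σ u' = sqCx σ (α ≫ u') := by
    simp only [sqCx, Functor.map_comp, Category.assoc]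
  have e2 : sqCx σ u ≫ (Fr.mapHomologicalComplex _).map ((H.mapHomologicalComplex _).map β) =
      sqCx σ (u ≫ (P.mapHomologicalComplex _).map β) := by
    ext n : 1
    show (G.map (u.f n) ≫ σ.hom.app _) ≫ Fr.map (H.map (β.f n)) =
      G.map (u.f n ≫ P.map (β.f n)) ≫ σ.hom.app _
    rw [G.map_comp, Category.assoc, Category.assoc]
    exact congrArg _ (σ.hom.naturality (β.f n)).symm
  rw [e1, e2]
  exact transHom_congr adjF (sqCx σ (α ≫ u')) q ((G.mapHomotopy Hh).compRight _)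

/-- The base change morphism computed by arbitrary resolutions and lift. -/
theorem bcQGen_any {F : T} (I : InjectiveResolution F) (J : InjectiveResolution (Lp.obj F))
    (u : I.cocomplex ⟶ (P.mapHomologicalComplex _).obj J.cocomplex)
    (hu : I.ι.f 0 ≫ u.f 0 = adjP.unit.app F ≫ P.map (J.ι.f 0)) (q : ℕ) :
    bcQGen adjP adjF σ q F =
      Lf.map (I.isoRightDerivedObj G q).hom ≫ transHom adjF (sqCx σ u) q ≫
        (J.isoRightDerivedObj H q).inv := by
  let α := InjectiveResolution.desc (𝟙 F) I (injectiveResolution F)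
  let β := InjectiveResolution.desc (𝟙 (Lp.obj F)) J (injectiveResolution (Lp.obj F))
  have hα : (injectiveResolution F).ι.f 0 ≫ α.f 0 = 𝟙 F ≫ I.ι.f 0 :=
    InjectiveResolution.desc_commutes_zero _ _ _
  have hβ' : (injectiveResolution (Lp.obj F)).ι.f 0 ≫ β.f 0 = 𝟙 _ ≫ J.ι.f 0 :=
    InjectiveResolution.desc_commutes_zero _ _ _
  have hG := InjectiveResolution.isoRightDerivedObj_hom_naturality (𝟙 F) (injectiveResolution F) I α hα G q
  have hH := InjectiveResolution.isoRightDerivedObj_hom_naturality (𝟙 (Lp.obj F)) (injectiveResolution (Lp.obj F)) J β hβ' H q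
  rw [CategoryTheory.Functor.map_id, Category.id_comp] at hG hH
  have key := transHom_square adjP adjF σ (𝟙 F) α hα β (by rw [Lp.map_id]; exact hβ') (liftUnit adjP F)
    (liftUnit_zero adjP F) u hu q
  rw [bcQGen_eq, hG, Functor.map_comp, Category.assoc]
  erw [reassoc_of% key]
  congr 2
  exact inv_eq_comp_inv _ _ _ hH

variable [Lf.Additive] [PreservesFiniteLimits Lf] [PreservesFiniteColimits Lf]

/-- The source of the base change morphism as the homology of a complex. -/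
def srcHom {F : T} (I : InjectiveResolution F) (q : ℕ) :
    Lf.obj ((G.rightDerived q).obj F) ⟶
      ((Lf.mapHomologicalComplex _).obj ((G.mapHomologicalComplex _).obj I.cocomplex)).homology q :=
  Lf.map (I.isoRightDerivedObj G q).hom ≫ transHom adjF (unitCx adjF _) q

instance {F : T} (I : InjectiveResolution F) (q : ℕ) : IsIso (srcHom (G := G) adjF I q) := by
  haveI := isIso_transHom_unitCx (K := (G.mapHomologicalComplex (ComplexShape.up ℕ)).obj I.cocomplex) adjF q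
  unfold srcHom
  infer_instance

/-- The map of complexes computing the base change morphism. -/
def tau {F : T} {I : InjectiveResolution F} {J : InjectiveResolution (Lp.obj F)}
    (u : I.cocomplex ⟶ (P.mapHomologicalComplex _).obj J.cocomplex) :
    ((G ⋙ Lf).mapHomologicalComplex _).obj I.cocomplex ⟶ (H.mapHomologicalComplex _).obj J.cocomplex :=
  transCx adjF (sqCx σ u)

theorem bcQGen_tau {F : T} (I : InjectiveResolution F) (J : InjectiveResolution (Lp.obj F))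
    (u : I.cocomplex ⟶ (P.mapHomologicalComplex _).obj J.cocomplex)
    (hu : I.ι.f 0 ≫ u.f 0 = adjP.unit.app F ≫ P.map (J.ι.f 0)) (q : ℕ) :
    bcQGen adjP adjF σ q F ≫ (J.isoRightDerivedObj H q).hom =
      srcHom adjF I q ≫ homologyMap (tau adjF σ u) q := by
  rw [bcQGen_any adjP adjF σ I J u hu, srcHom]
  simp only [Category.assoc, Iso.inv_hom_id, Category.comp_id]
  congr 1
  have hΦ : sqCx σ u = unitCx adjF _ ≫ (Fr.mapHomologicalComplex _).map (transCx adjF (sqCx σ u)) := by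
    ext n : 1
    exact ((adjF.homEquiv_unit _ _ _).symm.trans ((adjF.homEquiv _ _).apply_symm_apply ((sqCx σ u).f n))).symm
  refine (congrArg (fun Φ => transHom adjF Φ q) hΦ).trans ?_
  exact transHom_map adjF _ q _

theorem isIso_bcQGen_iff_tau {F : T} (I : InjectiveResolution F) (J : InjectiveResolution (Lp.obj F))
    (u : I.cocomplex ⟶ (P.mapHomologicalComplex _).obj J.cocomplex)
    (hu : I.ι.f 0 ≫ u.f 0 = adjP.unit.app F ≫ P.map (J.ι.f 0)) (q : ℕ) :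
    IsIso (bcQGen adjP adjF σ q F) ↔ IsIso (homologyMap (tau adjF σ u) q) := by
  rw [← isIso_comp_right_iff (bcQGen adjP adjF σ q F) (J.isoRightDerivedObj H q).hom,
    bcQGen_tau adjP adjF σ I J u hu q, isIso_comp_left_iff]

theorem mono_bcQGen_iff_tau {F : T} (I : InjectiveResolution F) (J : InjectiveResolution (Lp.obj F))
    (u : I.cocomplex ⟶ (P.mapHomologicalComplex _).obj J.cocomplex)
    (hu : I.ι.f 0 ≫ u.f 0 = adjP.unit.app F ≫ P.map (J.ι.f 0)) (q : ℕ) :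
    Mono (bcQGen adjP adjF σ q F) ↔ Mono (homologyMap (tau adjF σ u) q) := by
  rw [← mono_comp_iff_of_mono (bcQGen adjP adjF σ q F) (J.isoRightDerivedObj H q).hom,
    bcQGen_tau adjP adjF σ I J u hu q, mono_comp_iff_of_isIso]

variable [Lp.Additive] [PreservesFiniteLimits Lp] [PreservesFiniteColimits Lp]

omit [Lf.Additive] [PreservesFiniteLimits Lf] [PreservesFiniteColimits Lf] in
/-- Compatible lifts of the unit to resolutions of a short exact sequence. -/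
theorem exists_hom {Q₀ : ShortComplex T} (R : RDer.SESRes Q₀) (R' : RDer.SESRes (Q₀.map Lp)) :
    ∃ u : R.cx ⟶ R'.cx.map (P.mapHomologicalComplex _),
      R.I₁.ι.f 0 ≫ u.τ₁.f 0 = adjP.unit.app Q₀.X₁ ≫ P.map (R'.I₁.ι.f 0) ∧
      R.I₂.ι.f 0 ≫ u.τ₂.f 0 = adjP.unit.app Q₀.X₂ ≫ P.map (R'.I₂.ι.f 0) ∧
      R.I₃.ι.f 0 ≫ u.τ₃.f 0 = adjP.unit.app Q₀.X₃ ≫ P.map (R'.I₃.ι.f 0) := by
  obtain ⟨u₁, hu₁⟩ := exists_lift adjP R.I₁ R'.I₁
  obtain ⟨v, hv⟩ := exists_lift adjP R.I₂ R'.I₂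
  let Pc := P.mapHomologicalComplex (ComplexShape.up ℕ)
  haveI : ∀ n, Injective ((Pc.obj R'.I₂.cocomplex).X n) := fun n => P.injective_obj _
  obtain ⟨Hh⟩ := nonempty_homotopy R.I₁ (Pc.obj R'.I₂.cocomplex) (R.f ≫ v) (u₁ ≫ Pc.map R'.f) (by
    show R.I₁.ι.f 0 ≫ R.f.f 0 ≫ v.f 0 = R.I₁.ι.f 0 ≫ u₁.f 0 ≫ P.map (R'.f.f 0)
    rw [reassoc_of% (GrothLib.RDerLES.zero_comm R.ι_f), hv, reassoc_of% hu₁, ← P.map_comp,
      GrothLib.RDerLES.zero_comm R'.ι_f, P.map_comp]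
    exact adjP.unit.naturality_assoc Q₀.f _)
  let k : ∀ i j, R.I₂.cocomplex.X i ⟶ (Pc.obj R'.I₂.cocomplex).X j := fun i j => (R.splitting i).r ≫ Hh.hom i j
  have hk : R.f ≫ Homotopy.nullHomotopicMap k = R.f ≫ v - u₁ ≫ Pc.map R'.f := by
    rw [Homotopy.comp_nullHomotopicMap]
    have e : (fun i j => R.f.f i ≫ k i j) = Hh.hom := by
      funext i j
      exact (R.splitting i).f_r_assoc _
    rw [e]
    ext i
    simp only [HomologicalComplex.sub_f_apply]
    rw [Hh.comm i]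
    simp [Homotopy.nullHomotopicMap]
  have hk0 : R.I₂.ι.f 0 ≫ (Homotopy.nullHomotopicMap k).f 0 = 0 := by
    have hz : Hh.hom 0 ((ComplexShape.up ℕ).prev 0) = 0 := Hh.zero _ _ (by simp)
    simp only [Homotopy.nullHomotopicMap]
    rw [dNext_eq _ (show (ComplexShape.up ℕ).Rel 0 1 by rfl)]
    simp [prevD, k, hz]
  let u₂ := v - Homotopy.nullHomotopicMap k
  have hf : R.f ≫ u₂ = u₁ ≫ Pc.map R'.f := by simp only [u₂, Preadditive.comp_sub, hk]; abel
  have hu₂ : R.I₂.ι.f 0 ≫ u₂.f 0 = adjP.unit.app Q₀.X₂ ≫ P.map (R'.I₂.ι.f 0) := by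
    simp only [u₂, HomologicalComplex.sub_f_apply, Preadditive.comp_sub, hk0, hv, sub_zero]
  have hz : R.f ≫ u₂ ≫ Pc.map R'.g = 0 := by
    rw [← Category.assoc, hf, Category.assoc, ← Pc.map_comp, R'.zero, Functor.map_zero, comp_zero]
  haveI := R.shortExact.epi_g
  let u₃ := R.shortExact.exact.desc (u₂ ≫ Pc.map R'.g) hz
  have hg : R.g ≫ u₃ = u₂ ≫ Pc.map R'.g := R.shortExact.exact.g_desc _ _
  refine ⟨ShortComplex.homMk u₁ u₂ u₃ hf.symm hg.symm, hu₁, hu₂, ?_⟩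
  haveI := GrothLib.RDerLES.epi_g R
  have hg0 : R.g.f 0 ≫ u₃.f 0 = u₂.f 0 ≫ P.map (R'.g.f 0) := by
    rw [← HomologicalComplex.comp_f, hg, HomologicalComplex.comp_f]
    rfl
  refine (cancel_epi Q₀.g).1 ?_
  show Q₀.g ≫ R.I₃.ι.f 0 ≫ u₃.f 0 = _
  rw [← reassoc_of% (GrothLib.RDerLES.zero_comm R.ι_g), hg0, reassoc_of% hu₂, ← P.map_comp,
    GrothLib.RDerLES.zero_comm R'.ι_g, P.map_comp]
  exact (adjP.unit.naturality_assoc Q₀.g _).symm

/-- The morphism of short exact sequences of complexes computing the base change morphisms. -/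
def tauHom {Q₀ : ShortComplex T} {R : RDer.SESRes Q₀} {R' : RDer.SESRes (Q₀.map Lp)}
    (u : R.cx ⟶ R'.cx.map (P.mapHomologicalComplex _)) :
    R.cx.map ((G ⋙ Lf).mapHomologicalComplex _) ⟶ R'.cx.map (H.mapHomologicalComplex _) where
  τ₁ := tau adjF σ u.τ₁
  τ₂ := tau adjF σ u.τ₂
  τ₃ := tau adjF σ u.τ₃
  comm₁₂ := by
    ext n : 1
    show (adjF.homEquiv _ _).symm (G.map (u.τ₁.f n) ≫ σ.hom.app _) ≫ H.map (R'.f.f n) =
      Lf.map (G.map (R.f.f n)) ≫ (adjF.homEquiv _ _).symm (G.map (u.τ₂.f n) ≫ σ.hom.app _)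
    rw [← adjF.homEquiv_naturality_left_symm, ← adjF.homEquiv_naturality_right_symm]
    congr 1
    rw [← G.map_comp_assoc, Category.assoc,
      show R.f.f n ≫ u.τ₂.f n = u.τ₁.f n ≫ P.map (R'.f.f n) from
        (congrArg (fun φ => φ.f n) u.comm₁₂).symm, G.map_comp, Category.assoc]
    exact congrArg _ (σ.hom.naturality (R'.f.f n)).symm
  comm₂₃ := by
    ext n : 1
    show (adjF.homEquiv _ _).symm (G.map (u.τ₂.f n) ≫ σ.hom.app _) ≫ H.map (R'.g.f n) =
      Lf.map (G.map (R.g.f n)) ≫ (adjF.homEquiv _ _).symm (G.map (u.τ₃.f n) ≫ σ.hom.app _)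
    rw [← adjF.homEquiv_naturality_left_symm, ← adjF.homEquiv_naturality_right_symm]
    congr 1
    rw [← G.map_comp_assoc, Category.assoc,
      show R.g.f n ≫ u.τ₃.f n = u.τ₂.f n ≫ P.map (R'.g.f n) from
        (congrArg (fun φ => φ.f n) u.comm₂₃).symm, G.map_comp, Category.assoc]
    exact congrArg _ (σ.hom.naturality (R'.g.f n)).symm

open HomologicalComplex.HomologySequence ComposableArrows

variable {Q₀ : ShortComplex T} (hQ : Q₀.ShortExact)

include hQ in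
/-- The four lemma for base change morphisms, injectivity. -/
theorem mono_bcQGen_of_effaced (j : ℕ) (h2 : IsIso (bcQGen adjP adjF σ j Q₀.X₂))
    (h3 : IsIso (bcQGen adjP adjF σ j Q₀.X₃)) (h2' : IsZero ((G.rightDerived (j + 1)).obj Q₀.X₂)) :
    Mono (bcQGen adjP adjF σ (j + 1) Q₀.X₁) := by
  obtain ⟨R⟩ := GrothLib.RDerLES.nonempty_sesRes hQ
  obtain ⟨R'⟩ := GrothLib.RDerLES.nonempty_sesRes (hQ.map_of_exact Lp)
  obtain ⟨u, u1, u2, u3⟩ := exists_hom adjP R R'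
  rw [mono_bcQGen_iff_tau adjP adjF σ R.I₁ R'.I₁ u.τ₁ u1]
  have e2 := (isIso_bcQGen_iff_tau adjP adjF σ R.I₂ R'.I₂ u.τ₂ u2 j).1 h2
  have e3 := (isIso_bcQGen_iff_tau adjP adjF σ R.I₃ R'.I₃ u.τ₃ u3 j).1 h3
  have hz : IsZero ((((G ⋙ Lf).mapHomologicalComplex _).obj R.I₂.cocomplex).homology (j + 1)) :=
    (Lf.map_isZero h2').of_iso (asIso (srcHom (G := G) adjF R.I₂ (j + 1))).symm
  apply Abelian.mono_of_epi_of_mono_of_mono
    ((ComposableArrows.δlastFunctor ⋙ ComposableArrows.δ₀Functor).map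
      (mapComposableArrows₅ (tauHom adjF σ u) (R.map_shortExact (G ⋙ Lf)) (R'.map_shortExact H) j (j + 1) rfl))
  · exact (composableArrows₅_exact (R.map_shortExact (G ⋙ Lf)) j (j + 1) rfl).δlast.δ₀
  · exact (composableArrows₅_exact (R'.map_shortExact H) j (j + 1) rfl).δlast.δ₀
  · exact @IsIso.epi_of_iso _ _ _ _ _ e2
  · exact @IsIso.mono_of_iso _ _ _ _ _ e3
  · exact ⟨fun a b _ => hz.eq_of_tgt a b⟩

include hQ in
/-- The five lemma for base change morphisms. -/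
theorem isIso_bcQGen_five (j : ℕ) (h2 : IsIso (bcQGen adjP adjF σ j Q₀.X₂))
    (h3 : IsIso (bcQGen adjP adjF σ j Q₀.X₃)) (h2' : IsIso (bcQGen adjP adjF σ (j + 1) Q₀.X₂))
    (h3' : Mono (bcQGen adjP adjF σ (j + 1) Q₀.X₃)) :
    IsIso (bcQGen adjP adjF σ (j + 1) Q₀.X₁) := by
  obtain ⟨R⟩ := GrothLib.RDerLES.nonempty_sesRes hQ
  obtain ⟨R'⟩ := GrothLib.RDerLES.nonempty_sesRes (hQ.map_of_exact Lp)
  obtain ⟨u, u1, u2, u3⟩ := exists_hom adjP R R'
  rw [isIso_bcQGen_iff_tau adjP adjF σ R.I₁ R'.I₁ u.τ₁ u1]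
  have e2 := (isIso_bcQGen_iff_tau adjP adjF σ R.I₂ R'.I₂ u.τ₂ u2 j).1 h2
  have e3 := (isIso_bcQGen_iff_tau adjP adjF σ R.I₃ R'.I₃ u.τ₃ u3 j).1 h3
  have f2 := (isIso_bcQGen_iff_tau adjP adjF σ R.I₂ R'.I₂ u.τ₂ u2 (j + 1)).1 h2'
  have f3 := (mono_bcQGen_iff_tau adjP adjF σ R.I₃ R'.I₃ u.τ₃ u3 (j + 1)).1 h3'
  let φ := mapComposableArrows₅ (tauHom adjF σ u) (R.map_shortExact (G ⋙ Lf)) (R'.map_shortExact H) j (j + 1) rfl
  have x1 := composableArrows₅_exact (R.map_shortExact (G ⋙ Lf)) j (j + 1) rfl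
  have x2 := composableArrows₅_exact (R'.map_shortExact H) j (j + 1) rfl
  have hm : Mono (homologyMap (tau adjF σ u.τ₁) (j + 1)) := by
    apply Abelian.mono_of_epi_of_mono_of_mono
      ((ComposableArrows.δlastFunctor ⋙ ComposableArrows.δ₀Functor).map φ)
    · exact x1.δlast.δ₀
    · exact x2.δlast.δ₀
    · exact @IsIso.epi_of_iso _ _ _ _ _ e2
    · exact @IsIso.mono_of_iso _ _ _ _ _ e3
    · exact @IsIso.mono_of_iso _ _ _ _ _ f2
  have he : Epi (homologyMap (tau adjF σ u.τ₁) (j + 1)) := by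
    apply Abelian.epi_of_epi_of_epi_of_mono
      ((ComposableArrows.δ₀Functor ⋙ ComposableArrows.δ₀Functor).map φ)
    · exact x1.δ₀.δ₀
    · exact x2.δ₀.δ₀
    · exact @IsIso.epi_of_iso _ _ _ _ _ e3
    · exact @IsIso.epi_of_iso _ _ _ _ _ f2
    · exact f3
  exact isIso_of_mono_of_epi _

include hQ in
/-- Left exactness of the cokernels of base change morphisms. -/
theorem exists_lift_of_mem_image (j : ℕ) (h3 : IsIso (bcQGen adjP adjF σ j Q₀.X₃))
    (h3' : Mono (bcQGen adjP adjF σ (j + 1) Q₀.X₃)) {A : X} (y : A ⟶ (H.rightDerived (j + 1)).obj (Lp.obj Q₀.X₁))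
    (x : A ⟶ Lf.obj ((G.rightDerived (j + 1)).obj Q₀.X₂))
    (hxy : y ≫ (H.rightDerived (j + 1)).map (Lp.map Q₀.f) = x ≫ bcQGen adjP adjF σ (j + 1) Q₀.X₂) :
    ∃ (A' : X) (π : A' ⟶ A) (_ : Epi π) (z : A' ⟶ Lf.obj ((G.rightDerived (j + 1)).obj Q₀.X₁)),
      π ≫ y = z ≫ bcQGen adjP adjF σ (j + 1) Q₀.X₁ := by
  obtain ⟨R⟩ := GrothLib.RDerLES.nonempty_sesRes hQ
  obtain ⟨R'⟩ := GrothLib.RDerLES.nonempty_sesRes (hQ.map_of_exact Lp)
  obtain ⟨u, u1, u2, u3⟩ := exists_hom adjP R R'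
  let φ := tauHom adjF σ u
  have hS := R.map_shortExact (G ⋙ Lf)
  have hS' := R'.map_shortExact H
  haveI : IsIso (homologyMap φ.τ₃ j) := (isIso_bcQGen_iff_tau adjP adjF σ R.I₃ R'.I₃ u.τ₃ u3 j).1 h3
  haveI : Mono (homologyMap φ.τ₃ (j + 1)) := (mono_bcQGen_iff_tau adjP adjF σ R.I₃ R'.I₃ u.τ₃ u3 (j + 1)).1 h3'
  let y' : A ⟶ (R'.cx.map (H.mapHomologicalComplex _)).X₁.homology (j + 1) :=
    y ≫ (R'.I₁.isoRightDerivedObj H (j + 1)).hom
  let x' : A ⟶ (R.cx.map ((G ⋙ Lf).mapHomologicalComplex _)).X₂.homology (j + 1) :=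
    x ≫ srcHom adjF R.I₂ (j + 1)
  have hsq : y' ≫ homologyMap ((H.mapHomologicalComplex _).map R'.f) (j + 1) = x' ≫ homologyMap φ.τ₂ (j + 1) := by
    have := GrothLib.RDerLES.sqf H R' (j + 1)
    simp only [y', x', Category.assoc]
    erw [← this, reassoc_of% hxy, bcQGen_tau adjP adjF σ R.I₂ R'.I₂ u.τ₂ u2 (j + 1)]
    rfl
  have hg : x' ≫ homologyMap (((G ⋙ Lf).mapHomologicalComplex _).map R.g) (j + 1) = 0 := by
    rw [← cancel_mono (homologyMap φ.τ₃ (j + 1)), zero_comp, Category.assoc, ← homologyMap_comp,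
      show ((G ⋙ Lf).mapHomologicalComplex _).map R.g ≫ φ.τ₃ = φ.τ₂ ≫ (H.mapHomologicalComplex _).map R'.g from
        φ.comm₂₃.symm, homologyMap_comp]
    erw [← reassoc_of% hsq]
    rw [← homologyMap_comp, ← Functor.map_comp, R'.zero, Functor.map_zero, homologyMap_zero, comp_zero]
  obtain ⟨A₁, π₁, hπ₁, x₁, hx₁⟩ := (hS.homology_exact₂ (j + 1)).exact_up_to_refinements x' hg
  dsimp at x₁ hx₁
  have h₁ : (π₁ ≫ y' - x₁ ≫ homologyMap φ.τ₁ (j + 1)) ≫
      homologyMap ((H.mapHomologicalComplex _).map R'.f) (j + 1) = 0 := by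
    rw [Preadditive.sub_comp, sub_eq_zero, Category.assoc, hsq, reassoc_of% hx₁, Category.assoc,
      ← homologyMap_comp, ← homologyMap_comp]
    exact congrArg (fun k => x₁ ≫ homologyMap k (j + 1)) φ.comm₁₂.symm
  obtain ⟨A₂, π₂, hπ₂, w, hw⟩ := (hS'.homology_exact₁ j (j + 1) rfl).exact_up_to_refinements _ h₁
  dsimp at w hw
  obtain ⟨A₃, π₃, hπ₃, w', hw'⟩ := surjective_up_to_refinements_of_epi (homologyMap φ.τ₃ j) w
  refine ⟨A₃, π₃ ≫ π₂ ≫ π₁, inferInstance,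
    (w' ≫ hS.δ j (j + 1) rfl + π₃ ≫ π₂ ≫ x₁) ≫ inv (srcHom adjF R.I₁ (j + 1)), ?_⟩
  rw [← cancel_mono (R'.I₁.isoRightDerivedObj H (j + 1)).hom]
  simp only [Category.assoc]
  erw [bcQGen_tau adjP adjF σ R.I₁ R'.I₁ u.τ₁ u1 (j + 1)]
  rw [IsIso.inv_hom_id_assoc, Preadditive.add_comp]
  show π₃ ≫ π₂ ≫ π₁ ≫ y' = (w' ≫ hS.δ j (j + 1) rfl) ≫ homologyMap φ.τ₁ (j + 1) +
    (π₃ ≫ π₂ ≫ x₁) ≫ homologyMap φ.τ₁ (j + 1)
  rw [Category.assoc w', HomologicalComplex.HomologySequence.δ_naturality φ hS hS' j (j + 1) rfl]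
  rw [← reassoc_of% hw', ← hw]
  simp only [Preadditive.comp_sub, Category.assoc]
  exact (sub_add_cancel _ _).symm

end GrothLib.BCQLES
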