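import Groth.Agent.Lib.EtDer.SepPoint
import Groth.Agent.Lib.EtDer.Henselian
import Groth.Agent.Lib.KPi18.Basic
import Groth.Agent.Lib.EtSite.PushUI
import Mathlib.AlgebraicGeometry.Limits

/-!
# Effacement of higher direct images by sheaves on geometric points
-/

set_option autoImplicit false
set_option backward.isDefEq.respectTransparency false

universe u

open CategoryTheory CategoryTheory.Limits AlgebraicGeometry Opposite

noncomputable section

namespace GrothLib.BCQLES

/-- An étale covering of a scheme étale over a separably closed point has sections over singletons. -/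
theorem exists_section_singleton {K : Type u} [Field K] [IsSepClosed K] {Q U : Scheme.{u}}
    (p : Q ⟶ Spec (CommRingCat.of K)) [Etale p] (g : U ⟶ Q) [Etale g] (z : U) :
    ∃ (W : Q.Opens) (h : (W : Scheme.{u}) ⟶ U), (W : Set Q) = {g.base z} ∧ h ≫ g = W.ι := by
  haveI : IsLocallyArtinian (Spec (CommRingCat.of K)) :=
    Scheme.isLocallyArtinianScheme_Spec.2 (inferInstanceAs (IsArtinianRing K))
  haveI : LocallyQuasiFinite p := GrothLib.EtBasicB.locallyQuasiFinite_of_unramified p
  haveI : IsLocallyArtinian Q := IsLocallyArtinian.of_locallyQuasiFinite p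
  let a := g.base z
  let W : Q.Opens := ⟨{a}, isOpen_discrete _⟩
  let a' : W.toScheme := ⟨a, rfl⟩
  haveI : Subsingleton W.toScheme := ⟨fun x y => Subtype.ext (x.2.trans y.2.symm)⟩
  obtain ⟨w, -, -⟩ := Scheme.Pullback.exists_preimage_pullback (f := g) (g := W.ι) z a' rfl
  haveI : Etale (pullback.snd g W.ι) := MorphismProperty.pullback_snd _ _ inferInstance
  haveI : Etale (W.ι ≫ p) := inferInstance
  obtain ⟨s, hs⟩ := GrothLib.ProEtS.exists_section_of_isSepClosed (pullback.snd g W.ι ≫ W.ι ≫ p) w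
  obtain ⟨t, ht⟩ := GrothLib.ProEtS.exists_section_of_isSepClosed (W.ι ≫ p) a'
  haveI : IsOpenImmersion t :=
    haveI : Etale (t ≫ W.ι ≫ p) := ht ▸ inferInstance
    haveI : Etale t := Etale.of_comp t (W.ι ≫ p)
    haveI : Mono t := (SplitMono.mk (W.ι ≫ p) ht).mono
    IsOpenImmersion.of_flat_of_mono t
  haveI : Surjective t := ⟨fun x => ⟨IsLocalRing.closedPoint _, Subsingleton.elim _ _⟩⟩
  haveI : IsIso t :=
    haveI : Epi t.base := (TopCat.epi_iff_surjective _).2 t.surjective
    IsOpenImmersion.isIso t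
  haveI : IsIso (W.ι ≫ p) := by
    rw [← IsIso.inv_eq_of_hom_inv_id ht]; infer_instance
  refine ⟨W, (W.ι ≫ p) ≫ s ≫ pullback.fst g W.ι, rfl, ?_⟩
  have e : s ≫ pullback.snd g W.ι = t := by
    apply (cancel_mono (W.ι ≫ p)).1
    rw [Category.assoc, hs, ht]
  have e' : (W.ι ≫ p) ≫ t = 𝟙 _ := by
    rw [← IsIso.inv_eq_of_hom_inv_id ht, IsIso.inv_hom_id]
  rw [Category.assoc (W.ι ≫ p), Category.assoc s, pullback.condition, ← Category.assoc s, e,
    ← Category.assoc, e', Category.id_comp]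

/-- Condition (B) holds for morphisms out of a disjoint union of separably closed points. -/
theorem propB_sigma {ι : Type u} (K : ι → Type u) [∀ i, Field (K i)] [∀ i, IsSepClosed (K i)] {Y : Scheme.{u}}
    (f : (∐ fun i => Spec (CommRingCat.of (K i))) ⟶ Y) : BigSite.PropB f := by
  intro V v _ J U g hg hsurj
  refine ⟨PUnit.{u + 1}, fun _ => V, fun _ => 𝟙 V, fun _ => inferInstance, fun y => ⟨PUnit.unit, y, rfl⟩,
    fun _ => ?_⟩
  let X₀ := ∐ fun i => Spec (CommRingCat.of (K i))
  let P := pullback f (𝟙 V ≫ v)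
  let p : P ⟶ X₀ := pullback.fst _ _
  haveI : Etale p := MorphismProperty.pullback_fst _ _ (by rw [Category.id_comp]; infer_instance)
  let m : P ⟶ pullback f v := pullback.map f (𝟙 V ≫ v) f v (𝟙 _) (𝟙 V) (𝟙 Y) (by simp) (by simp)
  have key : ∀ a : P, ∃ (hopen : IsOpen ({a} : Set P)) (j : J)
      (h : ((⟨{a}, hopen⟩ : P.Opens) : Scheme.{u}) ⟶ U j), h ≫ g j = Scheme.Opens.ι (⟨{a}, hopen⟩ : P.Opens) ≫ m := by
    intro a
    obtain ⟨i, b, hb⟩ := (sigmaOpenCover fun i => Spec (CommRingCat.of (K i))).exists_eq (p.base a)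
    let k : Spec (CommRingCat.of (K i)) ⟶ X₀ := Sigma.ι (fun i => Spec (CommRingCat.of (K i))) i
    haveI : IsOpenImmersion k := inferInstance
    obtain ⟨a₁, -, ha₁⟩ := Scheme.Pullback.exists_preimage_pullback (f := k) (g := p) b a hb
    let κ : pullback k p ⟶ P := pullback.snd k p
    let q : pullback k p ⟶ Spec (CommRingCat.of (K i)) := pullback.fst k p
    haveI : Etale q := MorphismProperty.pullback_fst _ _ inferInstance
    obtain ⟨j, z, hz⟩ := hsurj ((κ ≫ m).base a₁)
    obtain ⟨z', hz₁, hz₂⟩ := Scheme.Pullback.exists_preimage_pullback (f := g j) (g := κ ≫ m) z a₁ hz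
    haveI : Etale (g j) := hg j
    haveI : Etale (pullback.snd (g j) (κ ≫ m)) := MorphismProperty.pullback_snd _ _ inferInstance
    obtain ⟨W, h, hW, hh⟩ := exists_section_singleton q (pullback.snd (g j) (κ ≫ m)) z'
    have himg : κ.base '' (W : Set (pullback k p : Scheme.{u})) = {a} := by
      rw [hW, Set.image_singleton, hz₂, ha₁]
    have hopen : IsOpen ({a} : Set P) := himg ▸ κ.isOpenEmbedding.isOpenMap _ W.isOpen
    let Wa : P.Opens := ⟨{a}, hopen⟩
    have hr : Set.range Wa.ι.base ⊆ Set.range (W.ι ≫ κ).base := by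
      rw [Scheme.Opens.range_ι, Scheme.Hom.comp_base, TopCat.coe_comp, Set.range_comp, Scheme.Opens.range_ι, himg]
      exact subset_rfl
    let l : (Wa : Scheme.{u}) ⟶ (W : Scheme.{u}) := IsOpenImmersion.lift (W.ι ≫ κ) Wa.ι hr
    refine ⟨hopen, j, l ≫ h ≫ pullback.fst (g j) (κ ≫ m), ?_⟩
    rw [Category.assoc, Category.assoc, pullback.condition, reassoc_of% hh, ← Category.assoc l,
      ← Category.assoc (l ≫ W.ι), Category.assoc l, IsOpenImmersion.lift_fac]
  choose hopen j h hh using key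
  refine ⟨P, fun a => ⟨{a}, hopen a⟩, fun a b hab => ?_, ?_, fun a => ⟨j a, h a, hh a⟩⟩
  · rw [disjoint_iff_inf_le]
    rintro x ⟨hxa : x = a, hxb : x = b⟩
    exact hab (hxa.symm.trans hxb)
  · exact eq_top_iff.2 fun x _ => TopologicalSpace.Opens.mem_iSup.2 ⟨x, rfl⟩

/-- Higher direct images of a sheaf pushed forward along a morphism with condition (B) vanish if the composite
has condition (B). -/
theorem isZero_Rpush_push_of_propB {W X Y : Scheme.{u}} (g : W ⟶ X) (f : X ⟶ Y) (hg : BigSite.PropB g)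
    (hgf : BigSite.PropB (g ≫ f)) (A : EtCoh.Ab W) (q : ℕ) (hq : 1 ≤ q) :
    IsZero ((EtCoh.Rpush f q).obj ((EtCoh.push g).obj A)) := by
  obtain ⟨n, rfl⟩ : ∃ n, q = n + 1 := ⟨q - 1, by omega⟩
  haveI := GrothLib.EtSite.push_preservesEpimorphisms g hg
  haveI := GrothLib.EtSite.push_preservesEpimorphisms (g ≫ f) hgf
  haveI : (EtCoh.push g ⋙ EtCoh.push f).PreservesEpimorphisms :=
    Functor.preservesEpimorphisms.of_iso (EtCoh.pushComp f g).symm
  haveI : (EtCoh.push f).IsRightAdjoint := (EtCoh.pullPushAdj f).isRightAdjoint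
  haveI : (EtCoh.push g).IsRightAdjoint := (EtCoh.pullPushAdj g).isRightAdjoint
  haveI : (EtCoh.push g).PreservesHomology :=
    Functor.preservesHomology_of_preservesEpis_and_kernels _
  haveI : (EtCoh.push g ⋙ EtCoh.push f).PreservesHomology :=
    Functor.preservesHomology_of_preservesEpis_and_kernels _
  let I := InjectiveResolution.of A
  let J := GrothLib.SheafCoh.mapInjectiveResolution (EtCoh.push g) I
    (fun E _ => GrothLib.EtDer.injective_push g E)
    (fun k => GrothLib.EtSite.isZero_rightDerived_of_exact (EtCoh.push g) (k + 1) k.succ_pos A)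
  refine IsZero.of_iso ?_ (J.isoRightDerivedObj (EtCoh.push f) (n + 1))
  refine (HomologicalComplex.exactAt_iff_isZero_homology _ _).1 ?_
  exact (I.cocomplex_exactAt_succ n).map (EtCoh.push g ⋙ EtCoh.push f)

/-- Sheaves killed by `n` embed into sheaves killed by `n` with vanishing higher direct images. -/
theorem exists_efface {T S : Scheme.{u}} (g : T ⟶ S) {n : ℕ} (F : EtCoh.Ab T) (hF : EtCoh.KilledBy n F) :
    ∃ (G : EtCoh.Ab T) (ι : F ⟶ G), Mono ι ∧ EtCoh.KilledBy n G ∧
      ∀ q : ℕ, 1 ≤ q → IsZero ((EtCoh.Rpush g q).obj G) := by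
  let K : T → Type u := fun x => AlgebraicClosure (T.residueField x)
  let ξ : (∐ fun x => Spec (CommRingCat.of (K x))) ⟶ T := Sigma.desc fun x => GrothLib.EtSite.gac x
  haveI : Surjective ξ := ⟨fun x => ⟨(Sigma.ι (fun x => Spec (CommRingCat.of (K x))) x).base default, by
    rw [← Scheme.Hom.comp_apply, Sigma.ι_desc, GrothLib.EtSite.gac_default]⟩⟩
  exact ⟨(EtCoh.push ξ).obj ((EtCoh.pull ξ).obj F), (EtCoh.pullPushAdj ξ).unit.app F,
    GrothLib.EtDer.mono_unit_of_surjective ξ F,
    GrothLib.KPi18.killedBy_push ξ (GrothLib.KPi18.killedBy_pull ξ hF),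
    fun q hq => isZero_Rpush_push_of_propB ξ g (propB_sigma K ξ) (propB_sigma K _) _ q hq⟩

end GrothLib.BCQLES
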