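import Groth.Agent.Lib.BCQLES13.Basic
import Groth.Agent.Lib.BCQLES13.Efface
import Groth.Agent.Lib.BCQVcomp.EtaleQ
import Groth.Agent.Lib.EtSite.Pull

/-!
# Base change in degree `q` under base change in lower degrees
-/

set_option autoImplicit false
set_option backward.isDefEq.respectTransparency false
set_option backward.isDefEq.respectTransparency.types false

universe u

open CategoryTheory CategoryTheory.Limits AlgebraicGeometry Opposite

noncomputable section

namespace GrothLib.BCQLES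

open GrothLib.BCQVcomp

theorem killedBy_of_epi {T : Scheme.{u}} {n : ℕ} {G Q : EtCoh.Ab T} (p : G ⟶ Q) [Epi p]
    (hG : EtCoh.KilledBy n G) : EtCoh.KilledBy n Q := by
  have h0 : (n • 𝟙 G : G ⟶ G) = 0 := by
    ext U s
    exact hG U.unop s
  have h1 : (n • 𝟙 Q : Q ⟶ Q) = 0 := by
    rw [← cancel_epi p, comp_zero, Preadditive.comp_nsmul, Category.comp_id, ← Category.id_comp p,
      ← Preadditive.nsmul_comp, h0, zero_comp]
  intro U s
  exact congrArg (fun k : Q ⟶ Q => k.hom.app (op U) s) h1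

variable {S' X' T Y : Scheme.{u}} (g : T ⟶ S') (f' : X' ⟶ S') (h : Y ⟶ X') (e : Y ⟶ T)
  (w : e ≫ g = h ≫ f') [PreservesFiniteLimits (EtCoh.pull e)] [PreservesFiniteLimits (EtCoh.pull f')]

/-- The base change morphism is natural. -/
theorem bcQ_naturality (q : ℕ) {F F' : EtCoh.Ab T} (a : F ⟶ F') :
    EtBC.bcQ g f' h e w q F ≫ (EtCoh.Rpush h q).map ((EtCoh.pull e).map a) =
      (EtCoh.pull f').map ((EtCoh.Rpush g q).map a) ≫ EtBC.bcQ g f' h e w q F' := by
  rw [bcQ_eq_gen, bcQ_eq_gen]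
  let Lp := EtCoh.pull e
  let I := injectiveResolution F
  let I' := injectiveResolution F'
  let J := injectiveResolution (Lp.obj F)
  let J' := injectiveResolution (Lp.obj F')
  let α := InjectiveResolution.desc a I' I
  let β := InjectiveResolution.desc (Lp.map a) J' J
  have hα : I.ι.f 0 ≫ α.f 0 = a ≫ I'.ι.f 0 := InjectiveResolution.desc_commutes_zero _ _ _
  have hβ : J.ι.f 0 ≫ β.f 0 = Lp.map a ≫ J'.ι.f 0 := InjectiveResolution.desc_commutes_zero _ _ _
  have key := transHom_square (EtCoh.pullPushAdj e) (EtCoh.pullPushAdj f') (sqIso g f' h e w) a α hα β hβ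
    (liftUnit (EtCoh.pullPushAdj e) F) (liftUnit_zero _ F) (liftUnit (EtCoh.pullPushAdj e) F') (liftUnit_zero _ F') q
  have hG := InjectiveResolution.isoRightDerivedObj_hom_naturality a I I' α hα (EtCoh.push g) q
  have hH := InjectiveResolution.isoRightDerivedObj_inv_naturality (Lp.map a) J J' β hβ (EtCoh.push h) q
  rw [bcQGen_eq, bcQGen_eq]
  simp only [Category.assoc]
  erw [hH]
  erw [← Functor.map_comp_assoc, hG]
  rw [Functor.map_comp, Category.assoc]
  erw [reassoc_of% key]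
  rfl

theorem isIso_of_bc_below {n : ℕ} {q : ℕ}
    (hlow : ∀ G : EtCoh.Ab T, EtCoh.KilledBy n G → ∀ q₁ ≤ q, IsIso (EtBC.bcQ g f' h e w q₁ G))
    (F : EtCoh.Ab T) (hF : EtCoh.KilledBy n F) :
    Mono (EtBC.bcQ g f' h e w (q + 1) F) := by
  haveI := pull_additive e
  haveI := pull_additive f'
  haveI := pull_preservesFiniteColimits e
  haveI := pull_preservesFiniteColimits f'
  obtain ⟨G, ι, _, hG, hz⟩ := exists_efface g F hF
  let Q₀ : ShortComplex (EtCoh.Ab T) := ShortComplex.mk ι (cokernel.π ι) (cokernel.condition _)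
  have hQ : Q₀.ShortExact := { exact := ShortComplex.exact_of_g_is_cokernel _ (cokernelIsCokernel _) }
  exact mono_bcQGen_of_effaced (EtCoh.pullPushAdj e) (EtCoh.pullPushAdj f') (sqIso g f' h e w) hQ q
    (hlow G hG q le_rfl) (hlow _ (killedBy_of_epi (cokernel.π ι) hG) q le_rfl) (hz (q + 1) (by omega))

theorem exists_mono_cokernel {n : ℕ} {q : ℕ}
    (hlow : ∀ G : EtCoh.Ab T, EtCoh.KilledBy n G → ∀ q₁ ≤ q, IsIso (EtBC.bcQ g f' h e w q₁ G))
    (F G : EtCoh.Ab T) (ι : F ⟶ G) [Mono ι] (hG : EtCoh.KilledBy n G) :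
    ∃ φ : cokernel (EtBC.bcQ g f' h e w (q + 1) F) ⟶ cokernel (EtBC.bcQ g f' h e w (q + 1) G), Mono φ ∧
      cokernel.π (EtBC.bcQ g f' h e w (q + 1) F) ≫ φ =
        (EtCoh.Rpush h (q + 1)).map ((EtCoh.pull e).map ι) ≫ cokernel.π (EtBC.bcQ g f' h e w (q + 1) G) := by
  haveI := pull_additive e
  haveI := pull_additive f'
  haveI := pull_preservesFiniteColimits e
  haveI := pull_preservesFiniteColimits f'
  let bF := EtBC.bcQ g f' h e w (q + 1) F
  let bG := EtBC.bcQ g f' h e w (q + 1) G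
  let r := (EtCoh.Rpush h (q + 1)).map ((EtCoh.pull e).map ι)
  have hd : bF ≫ r ≫ cokernel.π bG = 0 := by
    rw [reassoc_of% (bcQ_naturality g f' h e w (q + 1) ι), cokernel.condition, comp_zero]
  refine ⟨cokernel.desc bF (r ≫ cokernel.π bG) hd, ?_, cokernel.π_desc _ _ _⟩
  let Q₀ : ShortComplex (EtCoh.Ab T) := ShortComplex.mk ι (cokernel.π ι) (cokernel.condition _)
  have hQ : Q₀.ShortExact := { exact := ShortComplex.exact_of_g_is_cokernel _ (cokernelIsCokernel _) }
  have hC := killedBy_of_epi (cokernel.π ι) hG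
  apply Preadditive.mono_of_cancel_zero
  intro A k hk
  obtain ⟨A₁, π₁, hπ₁, y, hy⟩ := surjective_up_to_refinements_of_epi (cokernel.π bF) k
  have h1 : (y ≫ r) ≫ cokernel.π bG = 0 := by
    rw [Category.assoc, ← cokernel.π_desc bF (r ≫ cokernel.π bG) hd, ← reassoc_of% hy, hk, comp_zero]
  obtain ⟨A₂, π₂, hπ₂, x, hx⟩ :=
    (ShortComplex.exact_of_g_is_cokernel (ShortComplex.mk bG (cokernel.π bG) (cokernel.condition _))
      (cokernelIsCokernel _)).exact_up_to_refinements (y ≫ r) h1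
  obtain ⟨A₃, π₃, hπ₃, z, hz⟩ := exists_lift_of_mem_image (EtCoh.pullPushAdj e) (EtCoh.pullPushAdj f')
    (sqIso g f' h e w) hQ q (hlow _ hC q le_rfl) (isIso_of_bc_below g f' h e w hlow _ hC) (π₂ ≫ y) x
    ((Category.assoc _ _ _).trans hx)
  rw [← cancel_epi π₁, ← cancel_epi π₂, ← cancel_epi π₃, comp_zero, comp_zero, comp_zero, hy,
    ← Category.assoc π₂, ← Category.assoc π₃, hz, Category.assoc]
  erw [cokernel.condition]
  rw [comp_zero]

end GrothLib.BCQLES
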