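import Groth.Agent.Lib.BCQLES13.Et
import Groth.Agent.Lib.BCQVcomp.Hor13
import Groth.Agent.Lib.EtSite.BaseChange
import Groth.Agent.Lib.EtSite.PushExact
import Groth.Agent.Lib.EtDer.Injective
import Groth.Agent.Lib.SheafCoh.AcyclicRes

/-!
# Base change for the direct image along an integral morphism
-/

set_option autoImplicit false
set_option backward.isDefEq.respectTransparency false
set_option backward.isDefEq.respectTransparency.types false

universe u

open CategoryTheory CategoryTheory.Limits AlgebraicGeometry Opposite HomologicalComplex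

noncomputable section

namespace GrothLib.BCQLES

open GrothLib.BCQVcomp

variable {S' X' T Y T' Y' : Scheme.{u}}

theorem push_coh (f' : X' ⟶ S') (g : T ⟶ S') (h : Y ⟶ X') (e : Y ⟶ T) (π : T' ⟶ T) (π' : Y' ⟶ Y) (e' : Y' ⟶ T')
    (w : e ≫ g = h ≫ f') (wπ : e' ≫ π = π' ≫ e) (w₃ : e' ≫ π ≫ g = (π' ≫ h) ≫ f') (M : EtCoh.Ab Y') :
    (EtCoh.pushComp g π).hom.app ((EtCoh.push e').obj M) ≫ (sqIso (π ≫ g) f' (π' ≫ h) e' w₃).hom.app M =
      (EtCoh.push g).map ((sqIso π e π' e' wπ).hom.app M) ≫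
        (sqIso g f' h e w).hom.app ((EtCoh.push π').obj M) ≫
          (EtCoh.push f').map ((EtCoh.pushComp h π').hom.app M) := by
  have key := sqIso_vcomp g f' e h w.symm π e' π' wπ.symm w₃.symm M
  rw [← sqIso_inv (π ≫ g) f' (π' ≫ h) e' w₃, ← sqIso_inv π e π' e' wπ, ← sqIso_inv g f' h e w] at key
  rw [← cancel_mono ((sqIso (π ≫ g) f' (π' ≫ h) e' w₃).inv.app M)]
  simp only [Category.assoc, Iso.hom_inv_id_app]
  erw [key, Iso.hom_inv_id_app_assoc, ← Functor.map_comp_assoc, Iso.hom_inv_id_app]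
  simp

section Pre

universe w

variable {T' Y' T S Y X : Type w} [Category.{u} T'] [Abelian T'] [Category.{u} Y'] [Abelian Y']
  [Category.{u} T] [Abelian T] [Category.{u} S] [Abelian S] [Category.{u} Y] [Abelian Y]
  [Category.{u} X] [Abelian X]
  {G : T ⥤ S} {G₃ : T' ⥤ S} {Q : T' ⥤ T} {Q' : Y' ⥤ Y} {P : Y ⥤ T} {P' : Y' ⥤ T'} {H : Y ⥤ X} {H₃ : Y' ⥤ X}
  {Fr : X ⥤ S} {Lf : S ⥤ X}
  [G.Additive] [G₃.Additive] [Q.Additive] [Q'.Additive] [P.Additive] [P'.Additive] [H.Additive] [H₃.Additive]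
  [Fr.Additive] [PreservesFiniteLimits Fr] (adjF : Lf ⊣ Fr)
  (σ₁ : P ⋙ G ≅ H ⋙ Fr) (σq : P' ⋙ Q ≅ Q' ⋙ P) (σ₃ : P' ⋙ G₃ ≅ H₃ ⋙ Fr)
  (γG : Q ⋙ G ≅ G₃) (γH : Q' ⋙ H ≅ H₃)
  (hcoh : ∀ M : Y', γG.hom.app (P'.obj M) ≫ σ₃.hom.app M =
    G.map (σq.hom.app M) ≫ σ₁.hom.app (Q'.obj M) ≫ Fr.map (γH.hom.app M))

include hcoh in
theorem isIso_transHom_precomp_iff {I : CochainComplex T' ℕ} {J : CochainComplex Y' ℕ}
    (u : I ⟶ (P'.mapHomologicalComplex _).obj J) (q : ℕ) :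
    IsIso (transHom adjF (sqCx σ₃ u) q) ↔ IsIso (transHom adjF (sqCx σ₁ (sqCx σq u)) q) := by
  let a := (NatTrans.mapHomologicalComplex γG.hom (ComplexShape.up ℕ)).app I
  let b := (NatTrans.mapHomologicalComplex γH.hom (ComplexShape.up ℕ)).app J
  haveI : IsIso a := ((NatIso.mapHomologicalComplex γG (ComplexShape.up ℕ)).app I).isIso_hom
  haveI : IsIso b := ((NatIso.mapHomologicalComplex γH (ComplexShape.up ℕ)).app J).isIso_hom
  have key : a ≫ sqCx σ₃ u = sqCx σ₁ (sqCx σq u) ≫ (Fr.mapHomologicalComplex _).map b := by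
    ext n : 1
    show γG.hom.app _ ≫ G₃.map (u.f n) ≫ σ₃.hom.app _ =
      (G.map (Q.map (u.f n) ≫ σq.hom.app _) ≫ σ₁.hom.app _) ≫ Fr.map (γH.hom.app _)
    erw [← γG.hom.naturality_assoc (u.f n), hcoh]
    simp only [Functor.map_comp, Category.assoc]
    rfl
  have key' := (transHom_pre adjF a (sqCx σ₃ u) q).symm.trans
    ((congrArg (fun Φ => transHom adjF Φ q) key).trans (transHom_map adjF (sqCx σ₁ (sqCx σq u)) q b))
  haveI : IsIso (homologyMap a q) := ((homologyFunctor S _ q).mapIso (asIso a)).isIso_hom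
  haveI : IsIso (homologyMap b q) := ((homologyFunctor X _ q).mapIso (asIso b)).isIso_hom
  rw [← isIso_comp_left_iff (Lf.map (homologyMap a q)) (transHom adjF (sqCx σ₃ u) q), key', isIso_comp_right_iff]

theorem zero_lift {Lp : T ⥤ Y} {Lp' : T' ⥤ Y'} (adjP : Lp ⊣ P) (adjP' : Lp' ⊣ P') {M : T'} {I₀ : T'} {J₀ : Y'}
    (i : M ⟶ I₀) (j : Lp'.obj M ⟶ J₀) (u₀ : I₀ ⟶ P'.obj J₀) (hu : i ≫ u₀ = adjP'.unit.app M ≫ P'.map j)
    (θ : Lp.obj (Q.obj M) ⟶ Q'.obj (Lp'.obj M))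
    (hθ : adjP.unit.app (Q.obj M) ≫ P.map θ = Q.map (adjP'.unit.app M) ≫ σq.hom.app (Lp'.obj M)) :
    Q.map i ≫ Q.map u₀ ≫ σq.hom.app J₀ = adjP.unit.app (Q.obj M) ≫ P.map (θ ≫ Q'.map j) := by
  rw [← Q.map_comp_assoc, hu, P.map_comp, reassoc_of% hθ, Q.map_comp, Category.assoc]
  exact congrArg _ (σq.hom.naturality j)

end Pre

/-- Base change in degree `q` for a direct image along an integral morphism. -/
theorem isIso_bcQ_push_integral (f' : X' ⟶ S') (g : T ⟶ S') (h : Y ⟶ X') (e : Y ⟶ T) (π : T' ⟶ T) [IsIntegralHom π]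
    (π' : Y' ⟶ Y) (e' : Y' ⟶ T') (c' : IsPullback e' π' π e) (w : e ≫ g = h ≫ f')
    (w₃ : e' ≫ π ≫ g = (π' ≫ h) ≫ f')
    [PreservesFiniteLimits (EtCoh.pull e)] [PreservesFiniteLimits (EtCoh.pull e')]
    [PreservesFiniteLimits (EtCoh.pull f')] (M : EtCoh.Ab T') (q : ℕ)
    (H : IsIso (EtBC.bcQ (π ≫ g) f' (π' ≫ h) e' w₃ q M)) :
    IsIso (EtBC.bcQ g f' h e w q ((EtCoh.push π).obj M)) := by
  haveI := fun {A B : Scheme.{u}} (m : A ⟶ B) => GrothLib.EtSite.pull_preservesFiniteLimits m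
  haveI : IsIntegralHom π' := MorphismProperty.of_isPullback c' (inferInstance : IsIntegralHom π)
  haveI := GrothLib.EtSite.preservesHomology_push π
  haveI := GrothLib.EtSite.preservesHomology_push π'
  rw [bcQ_eq_gen] at H ⊢
  rw [isIso_bcQGen_iff] at H
  let N := (EtCoh.pull e').obj M
  let I := injectiveResolution M
  let J := injectiveResolution N
  let u := liftUnit (EtCoh.pullPushAdj e') M
  let I' := GrothLib.SheafCoh.mapInjectiveResolution (EtCoh.push π) I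
    (fun E _ => GrothLib.EtDer.injective_push π E)
    (fun k => GrothLib.EtSite.isZero_rightDerived_of_exact (EtCoh.push π) (k + 1) k.succ_pos M)
  let J₀ := GrothLib.SheafCoh.mapInjectiveResolution (EtCoh.push π') J
    (fun E _ => GrothLib.EtDer.injective_push π' E)
    (fun k => GrothLib.EtSite.isZero_rightDerived_of_exact (EtCoh.push π') (k + 1) k.succ_pos N)
  let θ := EtCoh.baseChange0 π e π' e' c'.w M
  haveI : IsIso θ := GrothLib.EtSite.isIso_baseChange0_of_integral c' M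
  let J' : InjectiveResolution ((EtCoh.pull e).obj ((EtCoh.push π).obj M)) :=
    { cocomplex := J₀.cocomplex
      ι := (CochainComplex.single₀ _).map θ ≫ J₀.ι
      injective := J₀.injective
      quasiIso := inferInstance }
  let σπ := sqIso π e π' e' c'.w
  let v : I'.cocomplex ⟶ ((EtCoh.push e).mapHomologicalComplex _).obj J'.cocomplex := sqCx σπ u
  have hI : I'.ι.f 0 = (EtCoh.push π).map (I.ι.f 0) := by
    simp [I', GrothLib.SheafCoh.mapInjectiveResolution, CochainComplex.fromSingle₀Equiv]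
  have hJ : J'.ι.f 0 = θ ≫ (EtCoh.push π').map (J.ι.f 0) := by
    simp [J', J₀, GrothLib.SheafCoh.mapInjectiveResolution, CochainComplex.fromSingle₀Equiv]
  have hθ : (EtCoh.pullPushAdj e).unit.app ((EtCoh.push π).obj M) ≫ (EtCoh.push e).map θ =
      (EtCoh.push π).map ((EtCoh.pullPushAdj e').unit.app M) ≫ σπ.hom.app N := by
    refine ((Adjunction.homEquiv_unit _ _ _ _).symm.trans (Equiv.apply_symm_apply _ _)).trans ?_
    simp [σπ, sqIso, N]
  have hv : I'.ι.f 0 ≫ v.f 0 = (EtCoh.pullPushAdj e).unit.app ((EtCoh.push π).obj M) ≫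
      (EtCoh.push e).map (J'.ι.f 0) := by
    rw [hI, hJ]
    exact zero_lift σπ (EtCoh.pullPushAdj e) (EtCoh.pullPushAdj e') (I.ι.f 0) (J.ι.f 0) (u.f 0)
      (liftUnit_zero _ M) θ hθ
  rw [bcQGen_any _ _ _ I' J' v hv, isIso_comp_left_iff, isIso_comp_right_iff]
  exact (isIso_transHom_precomp_iff (EtCoh.pullPushAdj f') (sqIso g f' h e w) σπ
    (sqIso (π ≫ g) f' (π' ≫ h) e' w₃) (EtCoh.pushComp g π) (EtCoh.pushComp h π')
    (push_coh f' g h e π π' e' w c'.w w₃) u q).1 H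

end GrothLib.BCQLES
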